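import Groth.Agent.ProjAmp.RelFlat
import Groth.Agent.DRing.TensorAmp
import Groth.Agent.PCohD.StalkExt
import Groth.Agent.S0912
import Groth.Agent.PullStalk.Sky

/-!
# Local finite tor dimension of direct images
-/

set_option autoImplicit false
set_option linter.style.haveILetI false

universe u

open CategoryTheory CategoryTheory.Limits AlgebraicGeometry DerivedCategory MonoidalCategory TopologicalSpace
open Groth.Agent.DRing.TorAmp

attribute [local instance] HasDerivedCategory.standard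

noncomputable section

namespace Groth.Agent.ProjAmp

variable {X Y : Scheme.{u}}

open Groth.Agent.PullStalk.Sky in
/-- The stalk of the structure sheaf is the local ring. -/
theorem exists_unitStalkEquiv {X : Scheme.{u}} (x : X) :
    Nonempty ((DerSch.stalkFunctor X x).obj (Coh.structureModule X) ≃ₗ[X.presheaf.stalk x] X.presheaf.stalk x) := by
  let M := Coh.structureModule X
  let one : M.presheaf.stalk x := germM M ⊤ x trivial (show Γ(M, (⊤ : X.Opens)) from (1 : Γ(X, (⊤ : X.Opens))))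
  let φ := LinearMap.toSpanSingleton (X.presheaf.stalk x) ((DerSch.stalkFunctor X x).obj M) one
  have key : ∀ (W : X.Opens) (hW : x ∈ W) (a : Γ(X, W)),
      X.presheaf.germ W x hW a • one = germM M W x hW (show Γ(M, W) from a) := fun W hW a => by
    have h1 : one = germM M W x hW (show Γ(M, W) from (1 : Γ(X, W))) := by
      refine (M.presheaf.germ_res_apply (homOfLE (le_top : W ≤ ⊤)) x hW _).symm.trans ?_
      exact congrArg (M.presheaf.germ W x hW) (map_one (X.presheaf.map (homOfLE (le_top : W ≤ ⊤)).op).hom)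
    rw [h1, ← germM_smul]
    exact congrArg (M.presheaf.germ W x hW) (mul_one a)
  refine ⟨(LinearEquiv.ofBijective φ ⟨?_, fun t => ?_⟩).symm⟩
  · rw [injective_iff_map_eq_zero]
    intro r hr
    obtain ⟨W, hW, a, rfl⟩ := X.presheaf.exists_germ_eq (x := x) r
    have h0 := ((key W hW a).symm.trans hr).trans (map_zero (M.presheaf.germ W x hW).hom).symm
    obtain ⟨W', hW', i₁, i₂, e⟩ := M.presheaf.germ_eq x hW hW _ _ h0
    have e' : X.presheaf.map i₁.op a = 0 := e.trans (map_zero _)
    rw [← X.presheaf.germ_res_apply i₁ x hW' a, e', map_zero]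
  · obtain ⟨W, hW, m, rfl⟩ := exists_germM_eq M x t
    exact ⟨X.presheaf.germ W x hW (show Γ(X, W) from m), key W hW _⟩

/-- The tensor unit on complexes. -/
def unitLeftIso {C : Type u} [CommRing C] (Z : DRing.Cx C) : DRing.SingleTensor.S0 (ModuleCat.of C C) ⊗ Z ≅ Z :=
  (DRing.SingleTensor.iso (ModuleCat.of C C) Z).symm ≪≫
    (NatIso.mapHomologicalComplex (rightUnitorNatIso (ModuleCat.{u} C)) (ComplexShape.up ℤ)).app Z ≪≫
      (Functor.mapHomologicalComplexIdIso (ModuleCat.{u} C) (ComplexShape.up ℤ)).app Z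

/-- The stalk complex over the base, as a restriction. -/
def stalkCxOverRefl (f : X ⟶ Y) (x : X) (F : CochainComplex X.Modules ℤ) :
    (DerSch.stalkCxOver f x).obj F ≅
      (DRing.restrictCx (f.stalkMap x).hom).obj ((Groth.Agent.KFlat.StalkCx.stCx x).obj F) :=
  HomologicalComplex.Hom.isoOfComponents (fun _ => Iso.refl _) fun _ _ _ => by
    erw [Category.id_comp]

/-- The structure sheaf in degree zero, at a stalk, is the local ring. -/
theorem torAmp_unit {Z : Scheme.{u}} (g : Y ⟶ Z) (y : Y) {a b : ℤ} (h : DerSch.HasTorAmplitudeAt g a b (DerSch.unitCx Y) y) :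
    DRing.HasTorAmplitudeIn (Z.presheaf.stalk (g y)) a b
      (DRing.toD ((DRing.restrictCx (g.stalkMap y).hom).obj
        (DRing.SingleTensor.S0 (ModuleCat.of (Y.presheaf.stalk y) (Y.presheaf.stalk y))))) := by
  obtain ⟨ε⟩ := exists_unitStalkEquiv y
  exact torAmp_of_iso (Q.mapIso ((DRing.restrictCx (g.stalkMap y).hom).mapIso
    ((HomologicalComplex.singleMapHomologicalComplex (DerSch.stalkFunctor Y y) (ComplexShape.up ℤ) 0).app _ ≪≫
      (HomologicalComplex.single _ (ComplexShape.up ℤ) 0).mapIso ε.toModuleIso))) h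

/-- Tor amplitude and extension along a bijective map. -/
theorem torAmp_ext_iff {A B : Type u} [CommRing A] [CommRing B] (φ : A →+* B) (hφ : Function.Bijective φ)
    (K : DRing.Cx A) (a b : ℤ) :
    DRing.HasTorAmplitudeIn B a b (DRing.toD ((Groth.Agent.KFlat.BaseChange.extCx φ).obj K)) ↔
      DRing.HasTorAmplitudeIn A a b (DRing.toD K) := by
  have := PCohD.StalkExt.isEquivalence_extend φ hφ
  let M := ModuleCat.extendScalars.{u, u, u} φ
  let Rs := ModuleCat.restrictScalars.{u} φ
  constructor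
  · rintro ⟨E, hv, hf, ⟨e⟩⟩
    let eu : K ≅ (DRing.restrictCx φ).obj ((Groth.Agent.KFlat.BaseChange.extCx φ).obj K) :=
      HomologicalComplex.Hom.isoOfComponents
        (fun n => (asIso (ModuleCat.extendRestrictScalarsAdj.{u, u, u} φ).unit).app (K.X n))
        fun i j _ => ((ModuleCat.extendRestrictScalarsAdj.{u, u, u} φ).unit.naturality (K.d i j)).symm
    refine ⟨(DRing.restrictCx φ).obj E, fun i hi => Rs.map_isZero (hv i hi), fun i => ?_,
      ⟨(Rs.mapDerivedCategoryFactors.app E).symm ≪≫ (DRing.restrictD φ).mapIso e ≪≫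
        Rs.mapDerivedCategoryFactors.app _ ≪≫ DerivedCategory.Q.mapIso eu.symm⟩⟩
    let := φ.toAlgebra
    have : Module.Flat A B := RingHom.Flat.of_bijective hφ
    have : Module.Flat B (E.X i) := hf i
    let : Module A (E.X i) := Module.compHom (E.X i) φ
    have : IsScalarTower A B (E.X i) := IsScalarTower.of_algebraMap_smul fun _ _ => rfl
    exact Module.Flat.trans A B (E.X i)
  · rintro ⟨E, hv, hf, ⟨e⟩⟩
    exact ⟨(Groth.Agent.KFlat.BaseChange.extCx φ).obj E, fun i hi => M.map_isZero (hv i hi),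
      fun i => Groth.Agent.DRing.Perfect.flat_extendScalars φ (hf i),
      ⟨(M.mapDerivedCategoryFactors.app E).symm ≪≫ M.mapDerivedCategory.mapIso e ≪≫
        M.mapDerivedCategoryFactors.app _⟩⟩

/-- From absolute amplitude at a stalk and tor dimension of the morphism there. -/
theorem torAmpAt_of_abs (f : X ⟶ Y) (F : CochainComplex X.Modules ℤ) (x : X) {a b c d : ℤ}
    (hF : DRing.HasTorAmplitudeIn (X.presheaf.stalk x) a b (PCohD.PerfAmp.stD x F))
    (hf : DerSch.HasTorAmplitudeAt f c d (DerSch.unitCx X) x) :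
    DerSch.HasTorAmplitudeAt f (a + c) (b + d) F x := by
  obtain ⟨E, hv, hfl, ⟨e⟩⟩ := hF
  let θ := (f.stalkMap x).hom
  exact torAmp_of_iso
    (Q.mapIso ((DRing.restrictCx θ).mapIso (DRing.Tensor.braid _ _ ≪≫ unitLeftIso E)) ≪≫
      DRing.TensorAmp.restrictDIso θ e ≪≫ (ModuleCat.restrictScalars.{u} θ).mapDerivedCategoryFactors.app _ ≪≫
      Q.mapIso (stalkCxOverRefl f x F).symm)
    (DRing.TensorAmp.torAmp_restrict_tensor θ E _ hv hfl (torAmp_unit f x hf))

/-- Locally finite relative amplitude of a complex of locally finite tor dimension. -/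
theorem locFinite_of_abs (f : X ⟶ Y) (hf : DerSch.LocFiniteTorDim f) (F : CochainComplex X.Modules ℤ)
    (hE : DCoh.LocHasFiniteTorDim (DCoh.toD X F)) : DerSch.LocFiniteTorAmplitude f F := fun x => by
  obtain ⟨V, a, b, hxV, hV⟩ := hE x
  obtain ⟨W, c, d, hxW, hW⟩ := hf x
  refine ⟨V ⊓ W, a + c, b + d, ⟨hxV, hxW⟩, fun z hz => torAmpAt_of_abs f F z ?_ (hW z hz.2)⟩
  let u : (V : Scheme.{u}) := ⟨z, hz.1⟩
  have : IsIso (V.ι.stalkMap u) := inferInstance
  exact (torAmp_ext_iff _ (ConcreteCategory.bijective_of_isIso (V.ι.stalkMap u)) _ a b).mp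
    (torAmp_of_iso (DerivedCategory.Q.mapIso (PCohD.StalkExt.stResCx V.ι u F))
      (PCohD.PerfAmp.stalk_torAmp (hV _ ⟨Iso.refl _⟩) _))

/-- One interval works over a quasi-compact open. -/
theorem exists_bound_on (f : X ⟶ Y) (F : CochainComplex X.Modules ℤ) (h : DerSch.LocFiniteTorAmplitude f F)
    (U : X.Opens) (hU : IsCompact (U : Set X)) :
    ∃ a b : ℤ, ∀ x ∈ U, DerSch.HasTorAmplitudeAt f a b F x := by
  classical
  choose V a b hxV hV using h
  obtain ⟨s, hs⟩ := hU.elim_finite_subcover (fun x => (V x : Set X)) (fun x => (V x).2)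
    fun x _ => Set.mem_iUnion.2 ⟨x, hxV x⟩
  obtain ⟨lo, hlo⟩ := (s.image a).bddBelow
  obtain ⟨hi, hhi⟩ := (s.image b).bddAbove
  refine ⟨lo, hi, fun y hyU => ?_⟩
  obtain ⟨x, hxs, hy⟩ : ∃ x ∈ s, y ∈ V x := by simpa using hs hyU
  exact torAmp_mono (hV x y hy) (hlo (Finset.mem_image_of_mem a hxs)) (hhi (Finset.mem_image_of_mem b hxs))

/-- `Rf_*` keeps local finite tor dimension. -/
theorem locHasFiniteTorDim_Rpush (f : X ⟶ Y) [QuasiCompact f] [QuasiSeparated f] [DCoh.HasRpush f]
    (hf : DerSch.LocFiniteTorDim f) (F : CochainComplex X.Modules ℤ) (hqc : DCoh.IsQCohD (DCoh.toD X F))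
    (hE : DCoh.LocHasFiniteTorDim (DCoh.toD X F)) :
    DCoh.LocHasFiniteTorDim ((DCoh.Rpush f).obj (DCoh.toD X F)) := fun y => by
  obtain ⟨V, hV, hy, -⟩ := exists_isAffineOpen_mem_and_subset (U := (⊤ : Y.Opens)) (x := y) trivial
  obtain ⟨a, b, hab⟩ := exists_bound_on f F (locFinite_of_abs f hf F hE) (f ⁻¹ᵁ V)
    (f.isCompact_preimage hV.isCompact)
  obtain ⟨b', hb'⟩ := exists_torAmp_restrict f F hqc a b V hab hV
  refine ⟨V, a, max a b', hy, fun F' ⟨e⟩ => ?_⟩
  have h : DCoh.HasTorAmplitudeIn a (max a b') (DerivedCategory.Q.obj ((DCoh.restrictCx V).obj F')) :=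
    fun G _ i hi => (hb' G i (by omega)).of_iso ((DerivedCategory.homologyFunctor _ i).mapIso
      ((DCoh.LTensorMod G).mapIso
        (((Scheme.Modules.restrictFunctor V.ι).mapDerivedCategoryFactors.app F').symm ≪≫
          (DCoh.restrictD V.ι).mapIso e)))
  exact (Groth.Agent.S0912.result _ a (max a b') (le_max_left _ _)
    (fun G => KFlat.LTensorMod.hasLTensorMod G)).1 h

end Groth.Agent.ProjAmp
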