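import Groth.Agent.KFlat.RpushPerfect
import Groth.Agent.S4265

/-!
# Tor amplitude of direct images along `P^r_Y → Y`
-/

set_option autoImplicit false
set_option linter.style.haveILetI false

universe u

open CategoryTheory CategoryTheory.Limits AlgebraicGeometry DerivedCategory TopologicalSpace
open Groth.Agent.KFlat Groth.Agent.KFlat.Pull Groth.Agent.KFlat.RPush Groth.Agent.CohDerLib

attribute [local instance] HasDerivedCategory.standard

noncomputable section

namespace Groth.Agent.ProjAmp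

variable {X Y : Scheme.{u}}

/-- Tor amplitude of a direct image, from vanishing of the tensor products with inverse images. -/
theorem torAmp_Rpush_of_bound (f : X ⟶ Y) [QuasiCompact f] [QuasiSeparated f] [CompactSpace Y]
    [QuasiSeparatedSpace Y] [DCoh.HasRpush f]
    {ι : Type u} (B : ι → Y.Opens) (N : ℕ)
    (hB : ∀ (U : Y.Opens) (y : Y), y ∈ U → ∃ i, y ∈ B i ∧ B i ≤ U)
    (hN : ∀ i, Groth.Agent.CohDerLib.QC.Van N (Groth.Agent.KFlat.QCohAcy.free (f ⁻¹ᵁ B i)))
    (F : CochainComplex X.Modules ℤ) (hF : DCoh.IsQCohD (DCoh.toD X F)) (a b : ℤ)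
    (h : ∀ (M : Y.Modules) (P : CochainComplex Y.Modules ℤ), DCoh.IsKFlat P →
      ∀ q : P ⟶ (HomologicalComplex.single Y.Modules (ComplexShape.up ℤ) 0).obj M, QuasiIso q →
      ∀ i, i < a ∨ b < i → IsZero (((DCoh.tensorCx.obj ((pullCx f).obj P)).obj F).homology i)) :
    DCoh.HasTorAmplitudeIn a (max a (b + (N : ℤ))) ((DCoh.Rpush f).obj (DCoh.toD X F)) := by
  let R := (DCoh.Rpush f).obj (DCoh.toD X F)
  refine Groth.Agent.KFlat.TorQCoh.torAmp_of_qcoh R a _ fun G hG _ i hi => ?_
  let S := (HomologicalComplex.single Y.Modules (ComplexShape.up ℤ) 0).obj G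
  let P := (resY Y).obj S
  have hP : DCoh.IsKFlat P := isKFlat_resY S
  have := quasiIso_resYπ S
  have hS : DCoh.IsQCohD (DCoh.toD Y S) := QCohModel.isQCohD_Q_of_terms S fun j => by
    by_cases hj : j = 0
    · subst hj
      exact @QCoh.isQuasicoherent_of_iso _ _ _ (HomologicalComplex.singleObjXSelf (ComplexShape.up ℤ) 0 G).symm hG
    · exact CohDerLib.QC.qcoh_of_isZero (HomologicalComplex.isZero_single_obj_X _ _ _ _ hj)
  have := LTensor.hasLTensorCx S
  have := LTensor.hasLTensorCx ((pullCx f).obj P)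
  have : DCoh.HasLpull f := Pull.hasLpull f
  have := isIso_toPull f hP
  obtain ⟨e⟩ := Groth.Agent.S1118.result f (DCoh.toD X F) hF S hS ((pullCx f).obj P)
    ⟨(asIso ((toPull f).app P)).symm ≪≫ (DCoh.Lpull f).mapIso (asIso (DerivedCategory.Q.map ((resYπ Y).app S)))⟩
  obtain ⟨eG⟩ := RpushPerfect.nonempty_ltensorMod_iso G R
  let W := (DCoh.LTensorCx ((pullCx f).obj P)).obj (DCoh.toD X F)
  have hPq : DCoh.IsQCohD (DCoh.toD X ((pullCx f).obj P)) := QCohModel.isQCohD_of_iso
    (((DCoh.Lpull f).mapIso (asIso (DerivedCategory.Q.map ((resYπ Y).app S))).symm) ≪≫ asIso ((toPull f).app P))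
    (QCohModel.isQCohD_Lpull f _ hS)
  have hW : DCoh.IsQCohD W := QCohTensor.isQCohD_LTensorCx _ hPq _ hF
  have hz : ∀ j, j < a ∨ b < j → IsZero (DCoh.HD W j) := fun j hj => by
    have := LTensor.isIso_toTensor_of_kflat ((pullCx f).obj P) (isKFlat_pullCx f hP) F
    refine ((h G P hP ((resYπ Y).app S) inferInstance j hj).of_iso
      ((DerivedCategory.homologyFunctorFactors _ j).app _ ≪≫
        (HomologicalComplex.homologyFunctor _ _ j).mapIso
          (((tensFlipIso X.sheaf).app ((pullCx f).obj P)).app F))).of_iso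
      ((DerivedCategory.homologyFunctor _ j).mapIso
        (@asIso _ _ _ _ ((LTensor.toTensor ((pullCx f).obj P)).app F) this))
  have : W.IsGE a := (DerivedCategory.isGE_iff W a).2 fun j hj => hz j (Or.inl hj)
  have hge := Groth.Agent.S11115.result f W a
  refine IsZero.of_iso ?_ ((DerivedCategory.homologyFunctor _ i).mapIso (eG ≪≫ e))
  rcases hi with hi | hi
  · exact DerivedCategory.isZero_of_isGE _ a i hi
  · have := QC.isIso_HD_Rpush_truncGE f B hB hN W hW (b + 1) i (by omega)
    refine IsZero.of_iso ?_ (asIso ((homologyFunctor Y.Modules i).map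
      ((DCoh.Rpush f).map ((TStructure.t.truncGEπ (b + 1)).app W))))
    refine Functor.map_isZero _ (Functor.map_isZero _ ?_)
    refine QC.isZero_of_homology _ fun j => ?_
    by_cases hj : j < b + 1
    · have : ((TStructure.t.truncGE (b + 1)).obj W).IsGE (b + 1) := inferInstance
      exact isZero_of_isGE _ (b + 1) j hj
    · have := HComp.isIso_homology_truncGEπ W (b + 1) j (by omega)
      exact (hz j (Or.inr (by omega))).of_iso
        (asIso ((homologyFunctor _ j).map ((TStructure.t.truncGEπ (b + 1)).app W))).symm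

/-- cohomological dimension of `P^r_Y → Y` over an affine base -/
theorem van_toBase (Y : Scheme.{u}) [IsAffine Y] (r : ℕ) (A : Y.affineOpens) :
    Groth.Agent.CohDerLib.QC.Van r
      (Groth.Agent.KFlat.QCohAcy.free (CohB1.ProjSpaceOver.toBase r Y ⁻¹ᵁ A.1)) := by
  let f := CohB1.ProjSpaceOver.toBase r Y
  let q : CohB1.ProjSpaceOver r Y ⟶ CohB1.ProjSpace r (ULift.{u} ℤ) := pullback.fst _ _
  have hT : IsSeparated (CohB1.ProjSpace.toSpec r (ULift.{u} ℤ)) := by
    unfold CohB1.ProjSpace.toSpec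
    have h1 : IsSeparated (Proj.toSpecZero (CohB1.polyGrading r (ULift.{u} ℤ))) := inferInstance
    exact MorphismProperty.comp_mem _ _ _ h1 inferInstance
  have hA : IsAffineHom (specULiftZIsTerminal.from Y) := isAffineHom_of_isAffine _
  have hq : IsAffineHom q := MorphismProperty.of_isPullback (IsPullback.of_hasPullback _ _).flip hA
  have : IsSeparated f := MorphismProperty.of_isPullback (IsPullback.of_hasPullback _ _) hT
  have : (CohB1.ProjSpaceOver r Y).IsSeparated := by
    constructor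
    rw [← terminal.comp_from f]
    infer_instance
  let D : Fin (r + 1) → (CohB1.ProjSpace r (ULift.{u} ℤ)).Opens := fun i =>
    Proj.basicOpen (CohB1.polyGrading r (ULift.{u} ℤ)) (MvPolynomial.X i)
  have hD : ⨆ i, D i = ⊤ := by
    refine top_le_iff.mp ((Agent.Props.AmpleTwist.iSup_basicOpen_X_pow r (ULift.{u} ℤ) (D := 1) one_pos).ge.trans
      (iSup_le fun i => ?_))
    rw [pow_one]
    exact le_iSup D i.down
  have e : f ⁻¹ᵁ A.1 = ⨆ i, q ⁻¹ᵁ D i ⊓ f ⁻¹ᵁ A.1 := by
    rw [← iSup_inf_eq, ← Scheme.Hom.preimage_iSup, hD]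
    exact (top_inf_eq _).symm
  rw [e]
  refine Groth.Agent.S4265.van_iSup r _ fun i => ?_
  have hDi : IsAffineOpen (q ⁻¹ᵁ D i) :=
    hq.isAffine_preimage _
      (Proj.isAffineOpen_basicOpen _ _ (MvPolynomial.isHomogeneous_X (ULift.{u} ℤ) i) one_pos)
  let W := q ⁻¹ᵁ D i
  have : IsAffine (W : Scheme.{u}) := hDi
  have haff : IsAffineHom (W.ι ≫ f) := isAffineHom_of_isAffine _
  have h3 := (haff.isAffine_preimage _ A.2).image_of_isOpenImmersion W.ι
  rwa [Scheme.Hom.comp_preimage, Scheme.Hom.image_preimage_eq_opensRange_inf,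
    Scheme.Opens.opensRange_ι] at h3

/-- a bounded flat complex has tor amplitude relative to a flat morphism -/
theorem hasTorAmplitude_of_flat (f : X ⟶ Y) [Flat f] (E : CochainComplex X.Modules ℤ) (a b : ℤ)
    (hv : DCoh.VanishesOutside E a b) (hfl : ∀ i : ℤ, FlatMod.IsFlat (E.X i)) :
    DerSch.HasTorAmplitude f a b E := fun z =>
  ⟨(DerSch.stalkCxOver f z).obj E, fun j hj => (DerSch.stalkOver f z).map_isZero (hv j hj), fun j => by
    letI := (f.stalkMap z).hom.toAlgebra
    haveI : Module.Flat (Y.presheaf.stalk (f.base z)) (X.presheaf.stalk z) := Flat.stalkMap f z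
    letI := Module.compHom ((DerSch.stalkFunctor X z).obj (E.X j)) (f.stalkMap z).hom
    haveI : IsScalarTower (Y.presheaf.stalk (f.base z)) (X.presheaf.stalk z)
        ((DerSch.stalkFunctor X z).obj (E.X j)) := IsScalarTower.of_compHom _ _ _
    haveI : Module.Flat (X.presheaf.stalk z) ((DerSch.stalkFunctor X z).obj (E.X j)) := hfl j z
    exact Module.Flat.trans (Y.presheaf.stalk (f.base z)) (X.presheaf.stalk z)
      ((DerSch.stalkFunctor X z).obj (E.X j)), ⟨Iso.refl _⟩⟩

end Groth.Agent.ProjAmp
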