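import Groth.Agent.KFlat.RpushPerfect
import Groth.Agent.KFlat.RPushBase
import Groth.Agent.KFlat.RelTor
import Groth.Agent.KFlat.FlatRes
import Groth.Agent.S6528

/-!
# Tor amplitude of direct images of relatively flat complexes
-/

set_option autoImplicit false
set_option linter.style.haveILetI false

universe u

open CategoryTheory CategoryTheory.Limits AlgebraicGeometry DerivedCategory TopologicalSpace
open Groth.Agent.KFlat Groth.Agent.KFlat.Pull Groth.Agent.KFlat.RPush

attribute [local instance] HasDerivedCategory.standard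

noncomputable section

namespace Groth.Agent.ProjAmp

variable {X Y : Scheme.{u}}

/-- `⊗^L` with a module does not raise the upper bound. -/
theorem isZero_HD_LTensorMod_above (G : X.Modules) [DCoh.HasLTensorMod G] (R : DCoh.D X) (n : ℤ) [R.IsLE n]
    (i : ℤ) (hi : n < i) : IsZero (DCoh.HD ((DCoh.LTensorMod G).obj R) i) := by
  let A₀ := DerivedCategory.Q.objPreimage R
  let eA := DerivedCategory.Q.objObjPreimageIso R
  obtain ⟨P, g, hflat, hz, hg⟩ := FlatRes.exists_flatRes A₀ n fun j hj =>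
    (isZero_of_isLE R n j hj).of_iso (((homologyFunctorFactors X.Modules j).app A₀).symm ≪≫
      (homologyFunctor _ j).mapIso eA)
  have hP : DCoh.IsKFlat P := isKFlat_of_flat_boundedAbove P n hz hflat
  have h : IsZero (((LTensorMod.tmCx G).obj P).homology i) :=
    (HomologicalComplex.exactAt_iff_isZero_homology _ i).1
      (HomologicalComplex.ExactAt.of_isZero ((DCoh.tensorRightMod G).map_isZero (hz i hi)))
  exact h.of_iso ((DerivedCategory.homologyFunctor X.Modules i).mapIso
    ((DCoh.LTensorMod G).mapIso ((asIso (DerivedCategory.Q.map g)) ≪≫ eA).symm) ≪≫ LTensorMod.hdIso G hP i)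

/-- A restriction is zero when the stalks at the points of the open are. -/
theorem isZero_restrict_of_stalk (U : X.Opens) {M : X.Modules}
    (h : ∀ x ∈ U, IsZero ((DerSch.stalkFunctor X x).obj M)) :
    IsZero ((Scheme.Modules.restrictFunctor U.ι).obj M) := by
  refine StalkCx.isZero_of_isZero_stalk fun u => ?_
  exact @ModuleCat.isZero_of_subsingleton _ _ _ (@Function.Injective.subsingleton _ _ _
    (ConcreteCategory.bijective_of_isIso ((Scheme.Modules.restrictStalkNatIso U.ι u).app M).hom).1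
    (ModuleCat.subsingleton_of_isZero (h (U.ι u) u.2)))

/-- `F ⊗ᴸ Lg^*M` over an open of the base is supported in the tor amplitude of `F` at the points over it. -/
theorem isZero_HD_LTensor_Lpull_restrict_local (f : X ⟶ Y) (F : CochainComplex X.Modules ℤ) (a b : ℤ)
    (V : Y.Opens) (hF : ∀ x ∈ f ⁻¹ᵁ V, DerSch.HasTorAmplitudeAt f a b F x) (M : (V : Scheme.{u}).Modules)
    [DCoh.HasLpull (f ∣_ V)] [DCoh.HasLTensorCx ((DCoh.restrictCx (f ⁻¹ᵁ V)).obj F)]
    (i : ℤ) (hi : i < a ∨ b < i) :
    IsZero (DCoh.HD ((DCoh.LTensorCx ((DCoh.restrictCx (f ⁻¹ᵁ V)).obj F)).obj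
      ((DCoh.Lpull (f ∣_ V)).obj (DCoh.inD (V : Scheme.{u}) M))) i) := by
  let U := f ⁻¹ᵁ V
  let g := f ∣_ V
  let N := (Scheme.Modules.pushforward V.ι).obj M
  let S := (HomologicalComplex.single Y.Modules (ComplexShape.up ℤ) 0).obj N
  let P := (resY Y).obj S
  have hP : DCoh.IsKFlat P := isKFlat_resY S
  have := quasiIso_resYπ S
  let T := (DCoh.tensorCx.obj ((pullCx f).obj P)).obj F
  let P' := (DCoh.restrictCx V).obj P
  have hP' : DCoh.IsKFlat P' := LocalD.isKFlat_restrict hP V
  let S' := (HomologicalComplex.single (V : Scheme.{u}).Modules (ComplexShape.up ℤ) 0).obj M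
  let eS : (DCoh.restrictCx V).obj S ≅ S' :=
    (HomologicalComplex.singleMapHomologicalComplex (Scheme.Modules.restrictFunctor V.ι) (ComplexShape.up ℤ) 0).app N ≪≫
      (HomologicalComplex.single (V : Scheme.{u}).Modules (ComplexShape.up ℤ) 0).mapIso
        ((Scheme.Modules.restrictFunctorAdjCounitIso V.ι).app M)
  have : QuasiIso ((DCoh.restrictCx V).map ((resYπ Y).app S)) := inferInstance
  let eP : DCoh.inD (V : Scheme.{u}) M ≅ DerivedCategory.Q.obj P' :=
    (DerivedCategory.singleFunctorIsoCompQ (V : Scheme.{u}).Modules 0).app M ≪≫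
      DerivedCategory.Q.mapIso eS.symm ≪≫
      (asIso (DerivedCategory.Q.map ((DCoh.restrictCx V).map ((resYπ Y).app S)))).symm
  let eg : (DCoh.restrictCx U).obj ((pullCx f).obj P) ≅ (pullCx g).obj P' :=
    LocalD.restrictPullCxIso f V U le_rfl P ≪≫
      (NatIso.mapHomologicalComplex (Scheme.Modules.pullbackCongr
        (Scheme.Hom.resLE_eq_morphismRestrict f)) (ComplexShape.up ℤ)).app P'
  let eT : (DCoh.restrictCx U).obj T ≅
      (DCoh.tensorCx.obj ((pullCx g).obj P')).obj ((DCoh.restrictCx U).obj F) :=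
    (FlatPull.restrictCxIso U).app T ≪≫ PullTensor.pullTensorCxIso U.ι ((pullCx f).obj P) F ≪≫
      (DCoh.tensorCx.mapIso ((FlatPull.restrictCxIso U).app _).symm).app _ ≪≫
      (DCoh.tensorCx.obj _).mapIso ((FlatPull.restrictCxIso U).app F).symm ≪≫
      (DCoh.tensorCx.mapIso eg).app _
  have hT : IsZero (((DCoh.tensorCx.obj ((pullCx g).obj P')).obj ((DCoh.restrictCx U).obj F)).homology i) :=
    ((isZero_restrict_of_stalk U (M := T.homology i) fun x hx =>
      ((RelTor.isZero_stalk_pull_tensor f F P hP N ((resYπ Y).app S) x a b (hF x hx) i hi).of_iso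
        ((HomologicalComplex.homologyFunctor _ _ i).mapIso
          ((StalkCx.stCx x).mapIso (((tensFlipIso X.sheaf).app ((pullCx f).obj P)).app F))).symm).of_iso
        ((T.sc i).mapHomologyIso (DerSch.stalkFunctor X x)).symm).of_iso
        ((T.sc i).mapHomologyIso (Scheme.Modules.restrictFunctor U.ι))).of_iso
      ((HomologicalComplex.homologyFunctor _ _ i).mapIso eT).symm
  have := LTensor.isIso_toTensor ((DCoh.restrictCx U).obj F) (isKFlat_pullCx g hP')
  have := isIso_toPull g hP'
  exact (hT.of_iso ((DerivedCategory.homologyFunctorFactors _ i).app _)).of_iso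
    ((DerivedCategory.homologyFunctor _ i).mapIso
      ((DCoh.LTensorCx _).mapIso ((DCoh.Lpull g).mapIso eP ≪≫ asIso ((toPull g).app P')) ≪≫
        asIso ((LTensor.toTensor ((DCoh.restrictCx U).obj F)).app ((pullCx g).obj P'))))

/-- The lower tor bound of a direct image over an open of the base. -/
theorem exists_torAmp_restrict (f : X ⟶ Y) [QuasiCompact f] [QuasiSeparated f] [DCoh.HasRpush f]
    (E : CochainComplex X.Modules ℤ) (hE : DCoh.IsQCohD (DCoh.toD X E)) (a b : ℤ)
    (V : Y.Opens) (hT : ∀ x ∈ f ⁻¹ᵁ V, DerSch.HasTorAmplitudeAt f a b E x) (hV : IsAffineOpen V) :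
    ∃ b' : ℤ, DCoh.HasTorAmplitudeIn a b' ((DCoh.restrictD V.ι).obj ((DCoh.Rpush f).obj (DCoh.toD X E))) := by
  have : IsAffine (V : Scheme.{u}) := hV
  let g := f ∣_ V
  haveI : QuasiCompact g := inferInstanceAs (QuasiCompact (f ∣_ V))
  haveI : QuasiSeparated g := inferInstanceAs (QuasiSeparated (f ∣_ V))
  haveI := RPush.hasRpush g
  haveI : DCoh.HasLpull g := Pull.hasLpull g
  let F' := (DCoh.restrictCx (f ⁻¹ᵁ V)).obj E
  haveI := LTensor.hasLTensorCx F'
  let eF : (DCoh.restrictD (f ⁻¹ᵁ V).ι).obj (DCoh.toD X E) ≅ DCoh.toD ((f ⁻¹ᵁ V : X.Opens) : Scheme.{u}) F' :=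
    (Scheme.Modules.restrictFunctor (f ⁻¹ᵁ V).ι).mapDerivedCategoryFactors.app E
  have hF' : DCoh.IsQCohD (DCoh.toD ((f ⁻¹ᵁ V : X.Opens) : Scheme.{u}) F') :=
    QCohModel.isQCohD_of_iso eF (PCNoeth.isQCohD_restrictD (f ⁻¹ᵁ V).ι hE)
  obtain ⟨b', hb'⟩ := RpushPerfect.exists_torAmp_Rpush g F' hF' a b fun M P hP q hq i hi => by
    have h := isZero_HD_LTensor_Lpull_restrict_local f E a b V hT M i hi
    have := isIso_toPull g hP
    have := LTensor.isIso_toTensor F' (isKFlat_pullCx g hP)
    let eP : DCoh.inD (V : Scheme.{u}) M ≅ DerivedCategory.Q.obj P :=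
      (DerivedCategory.singleFunctorIsoCompQ (V : Scheme.{u}).Modules 0).app M ≪≫
        (asIso (DerivedCategory.Q.map q)).symm
    exact (h.of_iso ((DerivedCategory.homologyFunctor _ i).mapIso
      ((DCoh.LTensorCx F').mapIso ((DCoh.Lpull g).mapIso eP ≪≫ asIso ((toPull g).app P)) ≪≫
        asIso ((LTensor.toTensor F').app ((pullCx g).obj P)))).symm).of_iso
      ((DerivedCategory.homologyFunctorFactors _ i).app _).symm
  let eR := (RPushBase.restrictRpushIso f V).app (DCoh.toD X E) ≪≫ (DCoh.Rpush g).mapIso eF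
  exact ⟨b', fun G _ i hi => (hb' G i hi).of_iso
    ((DerivedCategory.homologyFunctor _ i).mapIso ((DCoh.LTensorMod G).mapIso eR))⟩

/-- Vanishing of `H^i(R ⊗^L G)` from vanishing over the opens of a cover. -/
theorem isZero_HD_LTensorMod_of_restrict (R : DCoh.D Y) (G : Y.Modules) [DCoh.HasLTensorMod G] (i : ℤ)
    (h : ∀ y : Y, ∃ V : Y.Opens, y ∈ V ∧ ∀ (G' : (V : Scheme.{u}).Modules) [DCoh.HasLTensorMod G'],
      IsZero (DCoh.HD ((DCoh.LTensorMod G').obj ((DCoh.restrictD V.ι).obj R)) i)) :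
    IsZero (DCoh.HD ((DCoh.LTensorMod G).obj R) i) := by
  let A₀ := DerivedCategory.Q.objPreimage R
  let P := (resY Y).obj A₀
  have hP : DCoh.IsKFlat P := isKFlat_resY _
  have := quasiIso_resYπ A₀
  let eP : DerivedCategory.Q.obj P ≅ R :=
    asIso (DerivedCategory.Q.map ((resYπ Y).app A₀)) ≪≫ DerivedCategory.Q.objObjPreimageIso R
  let S := (HomologicalComplex.single Y.Modules (ComplexShape.up ℤ) 0).obj G
  have := LTensor.hasLTensorCx S
  have := LTensor.isIso_toTensor S hP
  obtain ⟨eG⟩ := RpushPerfect.nonempty_ltensorMod_iso G R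
  let T := (DCoh.tensorCx.obj P).obj S
  suffices hT : IsZero (T.homology i) from
    (hT.of_iso ((DerivedCategory.homologyFunctorFactors _ i).app T)).of_iso
      ((DerivedCategory.homologyFunctor _ i).mapIso (eG ≪≫ (DCoh.LTensorCx S).mapIso eP.symm ≪≫
        asIso ((LTensor.toTensor S).app P)))
  refine StalkCx.isZero_of_isZero_stalk fun y => ?_
  obtain ⟨V, hy, hV⟩ := h y
  let G' := G.restrict V.ι
  let P' := (DCoh.restrictCx V).obj P
  have hP' : DCoh.IsKFlat P' := LocalD.isKFlat_restrict hP V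
  let S' := (HomologicalComplex.single (V : Scheme.{u}).Modules (ComplexShape.up ℤ) 0).obj G'
  have := LTensor.hasLTensorCx S'
  have := LTensor.isIso_toTensor S' hP'
  have := LTensorMod.hasLTensorMod G'
  obtain ⟨eG'⟩ := RpushPerfect.nonempty_ltensorMod_iso G' ((DCoh.restrictD V.ι).obj R)
  let eP' : DerivedCategory.Q.obj P' ≅ (DCoh.restrictD V.ι).obj R :=
    ((Scheme.Modules.restrictFunctor V.ι).mapDerivedCategoryFactors.app P).symm ≪≫
      (DCoh.restrictD V.ι).mapIso eP
  let eT : (DCoh.restrictCx V).obj T ≅ (DCoh.tensorCx.obj P').obj S' :=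
    (FlatPull.restrictCxIso V).app T ≪≫ PullTensor.pullTensorCxIso V.ι P S ≪≫
      (DCoh.tensorCx.mapIso ((FlatPull.restrictCxIso V).app P).symm).app _ ≪≫
      (DCoh.tensorCx.obj _).mapIso (((FlatPull.restrictCxIso V).app S).symm ≪≫
        (HomologicalComplex.singleMapHomologicalComplex (Scheme.Modules.restrictFunctor V.ι)
          (ComplexShape.up ℤ) 0).app G)
  have h1 : IsZero (((DCoh.tensorCx.obj P').obj S').homology i) :=
    ((hV G').of_iso ((DerivedCategory.homologyFunctor _ i).mapIso (eG' ≪≫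
      (DCoh.LTensorCx S').mapIso eP'.symm ≪≫ asIso ((LTensor.toTensor S').app P'))).symm).of_iso
      ((DerivedCategory.homologyFunctorFactors _ i).app _).symm
  have h2 : IsZero ((Scheme.Modules.restrictFunctor V.ι).obj (T.homology i)) :=
    (h1.of_iso ((HomologicalComplex.homologyFunctor _ _ i).mapIso eT)).of_iso
      ((T.sc i).mapHomologyIso (Scheme.Modules.restrictFunctor V.ι)).symm
  exact @ModuleCat.isZero_of_subsingleton _ _ _ (Groth.Agent.S6528.subsingleton_stalk (U := V) h2 hy)

end Groth.Agent.ProjAmp
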